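import Mathlib

/-!
# Redundant Sylow subgroups

`Redundant p G`: some Sylow `p`-subgroup `Q` is such that every element of `p`-power order lies in a
Sylow `p`-subgroup other than `Q`.

* `not_redundant_of_unique`: an element lying in a unique Sylow subgroup forbids redundancy;
* `not_redundant_of_cyclic`: cyclic Sylow subgroups are not redundant;
* `redundant_iff_of_central`: redundancy passes through central quotients.
-/

set_option autoImplicit false

namespace Cfsg.Agent.SylowRedundant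

open scoped Pointwise

/-- Some Sylow `p`-subgroup is covered by the others. -/
def Redundant (p : ℕ) (G : Type*) [Group G] : Prop :=
  ∃ Q : Sylow p G, ∀ x : G, (∃ k : ℕ, orderOf x = p ^ k) → ∃ P : Sylow p G, P ≠ Q ∧ x ∈ P

variable {G H : Type*} [Group G] [Group H] [Finite G] {p : ℕ} [hp : Fact p.Prime]

theorem exists_order {P : Sylow p G} {x : G} (hx : x ∈ P) : ∃ k : ℕ, orderOf x = p ^ k := by
  obtain ⟨k, hk⟩ := IsPGroup.iff_orderOf.mp P.isPGroup' ⟨x, hx⟩
  exact ⟨k, (Subgroup.orderOf_mk x hx).symm.trans hk⟩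

theorem mem_smul_iff {g x : G} {P : Sylow p G} : x ∈ g • P ↔ g⁻¹ * x * g ∈ P := by
  constructor
  · rintro ⟨y, hy, rfl⟩
    simpa [mul_assoc] using hy
  · intro h
    exact ⟨_, h, by simp [mul_assoc]⟩

/-- An element in a unique Sylow subgroup prevents redundancy. -/
theorem not_redundant_of_unique (S : Sylow p G) (a : G) (ha : a ∈ S)
    (huniq : ∀ P : Sylow p G, a ∈ P → P = S) : ¬ Redundant p G := by
  rintro ⟨Q, hQ⟩
  obtain ⟨k, rfl⟩ := MulAction.exists_smul_eq G S Q
  have hx : k * a * k⁻¹ ∈ k • S := mem_smul_iff.mpr (by simpa [mul_assoc] using ha)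
  obtain ⟨P, hP, hxP⟩ := hQ _ (exists_order hx)
  have h : a ∈ k⁻¹ • P := mem_smul_iff.mpr (by simpa [mul_assoc] using hxP)
  exact hP (inv_smul_eq_iff.mp (huniq _ h))

theorem not_redundant_of_cyclic (S : Sylow p G) [IsCyclic S] : ¬ Redundant p G := by
  obtain ⟨a, ha⟩ := IsCyclic.exists_generator (α := S)
  refine not_redundant_of_unique S a a.2 fun P hP => ?_
  have hle : (S : Subgroup G) ≤ P := fun x hx => by
    obtain ⟨i, hi⟩ := Subgroup.mem_zpowers_iff.mp (ha ⟨x, hx⟩)
    have := congrArg Subtype.val hi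
    rw [SubgroupClass.coe_zpow] at this
    show x ∈ (P : Subgroup G)
    rw [show x = (a : G) ^ i from this.symm]
    exact zpow_mem hP i
  exact Sylow.ext (S.is_maximal' P.isPGroup' hle)

variable [Finite H] (π : G →* H) (hπ : Function.Surjective π) (hker : π.ker ≤ Subgroup.center G)

omit [Finite H] in
include hker in
theorem map_mem_iff {x : G} (hx : ∃ k : ℕ, orderOf x = p ^ k) (P : Sylow p G) :
    π x ∈ P.mapSurjective hπ ↔ x ∈ P := by
  refine ⟨fun h => ?_, fun h => ⟨x, h, rfl⟩⟩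
  obtain ⟨y, hy, hyx⟩ := h
  obtain ⟨k, hk⟩ := hx
  have hxN : Subgroup.zpowers x ≤ Subgroup.normalizer ((P : Subgroup G) : Set G) := by
    rw [Subgroup.zpowers_le]
    have hz : y⁻¹ * x ∈ π.ker := by rw [MonoidHom.mem_ker, map_mul, map_inv, hyx, inv_mul_cancel]
    have hc : y⁻¹ * x ∈ Subgroup.normalizer ((P : Subgroup G) : Set G) :=
      Subgroup.center_le_normalizer _ (hker hz)
    have := mul_mem (Subgroup.le_normalizer hy) hc
    rwa [mul_inv_cancel_left] at this
  have hp' : IsPGroup p (Subgroup.zpowers x) :=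
    IsPGroup.of_card (n := k) (by rw [Nat.card_zpowers, hk])
  have := P.is_maximal' (hp'.to_sup_of_normal_right' P.isPGroup' hxN) le_sup_right
  exact this.le (Subgroup.mem_sup_left (Subgroup.mem_zpowers x))

omit [Finite H] in
include hker in
theorem mapSurjective_injective : Function.Injective fun P : Sylow p G => P.mapSurjective hπ := by
  intro P P' h
  have h' : P.mapSurjective hπ = P'.mapSurjective hπ := h
  refine Sylow.ext (P.is_maximal' P'.isPGroup' fun x hx => ?_).symm
  exact (map_mem_iff π hπ hker (exists_order hx) P').mp (h' ▸ ⟨x, hx, rfl⟩)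

omit [Finite H] in
theorem exists_order_map {x : G} (hx : ∃ k : ℕ, orderOf x = p ^ k) :
    ∃ k : ℕ, orderOf (π x) = p ^ k := by
  obtain ⟨k, hk⟩ := hx
  obtain ⟨i, -, hi⟩ := (Nat.dvd_prime_pow hp.out).mp (hk ▸ orderOf_map_dvd π x)
  exact ⟨i, hi⟩

include hπ hker in
theorem redundant_iff_of_central : Redundant p G ↔ Redundant p H := by
  constructor
  · rintro ⟨Q, hQ⟩
    refine ⟨Q.mapSurjective hπ, fun h hh => ?_⟩
    obtain ⟨k, hk⟩ := hh
    obtain ⟨R', hR'⟩ := (IsPGroup.of_card (n := k)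
      (by rw [Nat.card_zpowers, hk]) : IsPGroup p (Subgroup.zpowers h)).exists_le_sylow
    obtain ⟨R, rfl⟩ := Sylow.mapSurjective_surjective hπ p R'
    obtain ⟨x, hx, rfl⟩ := hR' (Subgroup.mem_zpowers h)
    obtain ⟨P, hP, hxP⟩ := hQ x (exists_order hx)
    exact ⟨P.mapSurjective hπ, fun e => hP (mapSurjective_injective π hπ hker e), ⟨x, hxP, rfl⟩⟩
  · rintro ⟨Q', hQ'⟩
    obtain ⟨Q, rfl⟩ := Sylow.mapSurjective_surjective hπ p Q'
    refine ⟨Q, fun x hx => ?_⟩
    obtain ⟨P', hP, hxP⟩ := hQ' _ (exists_order_map π hx)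
    obtain ⟨P, rfl⟩ := Sylow.mapSurjective_surjective hπ p P'
    exact ⟨P, fun e => hP (by rw [e]), (map_mem_iff π hπ hker hx P).mp hxP⟩

end Cfsg.Agent.SylowRedundant
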