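import Cfsg.Agent.Lib.SylowRedundant.Basic
import Cfsg.Agent.Lib.PSL2.Sylow
import Cfsg.Agent.Lib.PSL2.CentralProduct

/-!
# Redundant Sylow subgroups of `SL(2, q)` and `PSL(2, q)`

They exist exactly for `p = 2` and `q` not of the form `2ᵏ - 1`, `2ᵏ`, `2ᵏ + 1`.
-/

set_option autoImplicit false

namespace Cfsg.Agent.SylowRedundant

open Matrix
open scoped MatrixGroups Pointwise
open PSL2

variable {F : Type*} [Field F] [Fintype F]

theorem not_redundant_char (p : ℕ) [Fact p.Prime] [CharP F p] : ¬ Redundant p SL(2, F) := by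
  let U : Sylow p SL(2, F) := (isPGroup_unip p).toSylow (not_dvd_unip_index p)
  refine not_redundant_of_unique U (uu 1) (uu_mem_unip 1) fun P hP => ?_
  obtain ⟨k, rfl⟩ := MulAction.exists_smul_eq SL(2, F) U P
  obtain ⟨s, hs⟩ := mem_unip.1 (mem_smul_iff.mp hP : k⁻¹ * uu 1 * k ∈ unip F)
  have hk : k⁻¹ ∈ borel F :=
    uu_conj_mem_borel one_ne_zero (s := s) (by rw [inv_inv]; exact hs.symm)
  rw [Sylow.smul_eq_iff_mem_normalizer]
  have : k ∈ borel F := by simpa using inv_mem hk
  rwa [← normalizer_unip] at this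

theorem not_redundant_odd_prime (p : ℕ) [hp : Fact p.Prime] (hp2 : p ≠ 2) :
    ¬ Redundant p SL(2, F) := by
  obtain ⟨r, hr, n, hr', -⟩ := FiniteField.card' F
  have : Fact r.Prime := ⟨hr'⟩
  have := hr
  by_cases h : p = r
  · subst h; exact not_redundant_char p
  · have := isCyclic_sylow_odd (F := F) r p hp2 h (default : Sylow p SL(2, F))
    exact not_redundant_of_cyclic (default : Sylow p SL(2, F))

/-- The condition on `q`. -/
def GoodQ (q : ℕ) : Prop :=
  (¬ ∃ k : ℕ, q + 1 = 2 ^ k) ∧ (¬ ∃ k : ℕ, q = 2 ^ k) ∧ ¬ ∃ k : ℕ, q = 2 ^ k + 1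

theorem redundant_two_iff : Redundant 2 SL(2, F) ↔ GoodQ (Fintype.card F) := by
  have hq1 := one_lt_q (F := F)
  by_cases h2 : (2 : F) = 0
  · obtain ⟨r, hr, n, hr', hcard⟩ := FiniteField.card' F
    have := hr
    have hr2 : r = 2 := by
      have h : r ∣ 2 := (CharP.cast_eq_zero_iff F r 2).1 (by exact_mod_cast h2)
      exact (Nat.prime_dvd_prime_iff_eq hr' Nat.prime_two).1 h
    subst hr2
    exact iff_of_false (not_redundant_char 2) fun h => h.2.1 ⟨n, hcard⟩
  obtain ⟨m, g, a, w, hw, hw2, S, hm, hdvd, hndvd, hg, hac, hga, ha, hwc, hwg, hww, hS, hScard⟩ :=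
    exists_sylow_two h2
  set n := Nat.card (cent g) with hn
  have h4 := tr_sq_ne_four_of_tr_eq_zero h2 hg
  have hgnc := not_mem_center_of_tr h4
  have hle : Subgroup.zpowers a ≤ cent g := Subgroup.zpowers_le.2 hac
  have hmemS : ∀ y, y ∈ S ↔ y ∈ twoGroup a w hw hw2 := fun y => by
    show y ∈ (S : Subgroup SL(2, F)) ↔ _
    rw [hS]
  have haS : a ∈ S := by rw [hmemS]; exact Or.inl (Subgroup.mem_zpowers a)
  have hwS : w ∈ S := by rw [hmemS]; exact Or.inr hw2
  have hcases := card_cent_of_tr_zero h2 hg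
  have hodd := odd_card_iff.2 h2
  have h4n : 4 ∣ n :=
    (show 4 ∣ 2 ^ m from ⟨2 ^ (m - 2), by rw [show 4 = 2 ^ 2 from rfl, ← pow_add]; congr 1; omega⟩).trans hdvd
  by_cases hpow : n = 2 ^ m
  · refine iff_of_false (not_redundant_of_unique S a haS fun P hP => ?_) ?_
    · have hcent : Subgroup.zpowers a = cent g :=
        Subgroup.eq_of_le_of_card_ge hle (by rw [Nat.card_zpowers, ha, ← hn, hpow])
      have hPcard : Nat.card P = 2 ^ (m + 1) := by
        rw [Nat.card_congr (Sylow.equiv P S).toEquiv, hScard]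
      have key : ∀ T : Sylow 2 SL(2, F), a ∈ T →
          (T : Subgroup SL(2, F)) = Subgroup.normalizer (cent g : Set SL(2, F)) := by
        intro T hT
        have hle' : Subgroup.zpowers a ≤ (T : Subgroup SL(2, F)) := Subgroup.zpowers_le.2 hT
        have hidx : ((Subgroup.zpowers a).subgroupOf T).index = 2 := by
          have := ((Subgroup.zpowers a).subgroupOf T).index_mul_card
          rw [Nat.card_congr (Subgroup.subgroupOfEquivOfLe hle').toEquiv, Nat.card_zpowers, ha,
            Nat.card_congr (Sylow.equiv T S).toEquiv, hScard, pow_succ'] at this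
          exact Nat.eq_of_mul_eq_mul_right (Nat.two_pow_pos m) this
        have hnorm := Subgroup.normal_of_index_eq_two hidx
        have hTN : (T : Subgroup SL(2, F)) ≤ Subgroup.normalizer (cent g : Set SL(2, F)) := by
          rw [← hcent]
          exact (Subgroup.normal_subgroupOf_iff_le_normalizer hle').1 hnorm
        refine Subgroup.eq_of_le_of_card_ge hTN ?_
        rw [card_normalizer_cent h4, ← hn, hpow, Nat.card_congr (Sylow.equiv T S).toEquiv, hScard,
          pow_succ']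
      exact Sylow.ext ((key P hP).trans (key S haS).symm)
    · rintro ⟨h1, h2', h3⟩
      rcases (show Fintype.card F % 4 = 1 ∨ Fintype.card F % 4 = 3 by
        obtain ⟨k, hk⟩ := hodd; omega) with h | h
      · exact h3 ⟨m, by have := hcases.1 h; omega⟩
      · exact h1 ⟨m, by have := hcases.2 h; omega⟩
  refine iff_of_true ?_ ?_
  swap
  · -- otherwise the torus would be a `2`-group
    refine ⟨?_, ?_, ?_⟩
    · rintro ⟨k, hk⟩
      apply hpow
      have hk1 : 2 ≤ k := by
        rcases k with _ | _ | k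
        · omega
        · omega
        · omega
      have h4k : 4 ∣ 2 ^ k := ⟨2 ^ (k - 2), by rw [show 4 = 2 ^ 2 from rfl, ← pow_add]; congr 1; omega⟩
      have hnk : n = 2 ^ k := by
        have := hcases.2 (by omega)
        omega
      rw [hnk] at hdvd hndvd ⊢
      congr 1
      have h1 := (Nat.pow_dvd_pow_iff_le_right (by omega : 1 < 2)).1 hdvd
      have h2' : ¬ m + 1 ≤ k := fun h => hndvd (pow_dvd_pow 2 h)
      omega
    · rintro ⟨k, hk⟩
      obtain ⟨j, hj⟩ := hodd
      rcases k with _ | k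
      · omega
      · rw [pow_succ] at hk; omega
    · rintro ⟨k, hk⟩
      apply hpow
      rcases k with _ | _ | k
      · rw [pow_zero] at hk
        obtain ⟨j, hj⟩ := hodd; omega
      · -- `q = 3`
        have hnk : n = 2 ^ 2 := by
          have := hcases.2 (by omega)
          omega
        rw [hnk] at hdvd hndvd ⊢
        congr 1
        have h1 := (Nat.pow_dvd_pow_iff_le_right (by omega : 1 < 2)).1 hdvd
        omega
      · have h4k : 4 ∣ 2 ^ (k + 1 + 1) := ⟨2 ^ k, by ring⟩
        have hnk : n = 2 ^ (k + 2) := by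
          have := hcases.1 (by omega)
          have e : k + 1 + 1 = k + 2 := rfl
          rw [e] at hk
          omega
        rw [hnk] at hdvd hndvd ⊢
        congr 1
        have h1 := (Nat.pow_dvd_pow_iff_le_right (by omega : 1 < 2)).1 hdvd
        have h2' : ¬ m + 1 ≤ k + 2 := fun h => hndvd (pow_dvd_pow 2 h)
        omega
  -- an odd-order torus element gives a second Sylow subgroup over `⟨a⟩`
  obtain ⟨u, hu⟩ := hdvd
  have huo : ¬ 2 ∣ u := fun ⟨v, hv⟩ => hndvd ⟨v, by rw [hu, hv, pow_succ]; ring⟩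
  have hu1 : u ≠ 1 := fun h => hpow (by rw [hu, h, mul_one])
  obtain ⟨r, hr, hru⟩ := Nat.exists_prime_and_dvd hu1
  have : Fact r.Prime := ⟨hr⟩
  have hr2 : r ≠ 2 := fun h => huo (h ▸ hru)
  obtain ⟨⟨t, htc⟩, ht⟩ := exists_prime_orderOf_dvd_card' (G := cent g) r
    (hru.trans (Dvd.intro_left _ hu.symm))
  rw [Subgroup.orderOf_mk] at ht
  set S' := t • S with hS'
  have hne : S' ≠ S := by
    intro h
    have hmem : t * w * t⁻¹ ∈ S := h ▸ mem_smul_iff.mpr (by simpa [mul_assoc] using hwS)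
    have e : t * w * t⁻¹ = t * t * w := by
      have h1 := inverting_of_mem_normalizer h4 ((mem_normalizer_cent h4).2 (Or.inr hwg)) hwc _ (inv_mem htc)
      calc t * w * t⁻¹ = t * (w * t⁻¹ * w⁻¹) * w := by group
        _ = t * t * w := by rw [h1, inv_inv]
    rw [e, hmemS, mem_twoGroup] at hmem
    have htt : t * t ∈ Subgroup.zpowers a := by
      rcases hmem with h' | h'
      · exfalso
        apply hwc
        have := mul_mem (inv_mem (mul_mem htc htc)) (hle h')
        rwa [inv_mul_cancel_left] at this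
      · have := mul_mem h' (inv_mem hw2)
        rwa [mul_assoc (t * t) w w, mul_inv_cancel_right] at this
    obtain ⟨i, hi⟩ := htt
    have hpow2 : (t * t) ^ 2 ^ m = 1 := by
      rw [← hi, ← zpow_natCast, ← _root_.zpow_mul, mul_comm, _root_.zpow_mul, zpow_natCast, ← ha,
        pow_orderOf_eq_one, _root_.one_zpow]
    rw [← pow_two, ← pow_mul, ← pow_succ'] at hpow2
    have hd := orderOf_dvd_of_pow_eq_one hpow2
    rw [ht] at hd
    exact hr2 ((Nat.prime_dvd_prime_iff_eq hr Nat.prime_two).1 (hr.dvd_of_dvd_pow hd))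
  have hfix : ∀ x ∈ Subgroup.zpowers a, x ∈ S' := fun x hx => by
    rw [hS', mem_smul_iff, mul_assoc, (cent_comm hgnc (mem_cent.1 (hle hx)) (mem_cent.1 htc)).eq,
      inv_mul_cancel_left]
    rw [hmemS]
    exact Or.inl hx
  refine ⟨S, fun x hx => ?_⟩
  by_cases hxS : x ∈ S
  swap
  · obtain ⟨k, hk⟩ := hx
    obtain ⟨P, hP⟩ := (IsPGroup.of_card (n := k)
      (by rw [Nat.card_zpowers, hk]) : IsPGroup 2 (Subgroup.zpowers x)).exists_le_sylow
    refine ⟨P, fun h => hxS ?_, hP (Subgroup.mem_zpowers x)⟩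
    exact h ▸ hP (Subgroup.mem_zpowers x)
  have hxS' := hxS
  rw [hmemS, mem_twoGroup] at hxS'
  by_cases hxa : x ∈ Subgroup.zpowers a
  · exact ⟨S', hne, hfix x hxa⟩
  -- `x` inverts the torus, so is conjugate to `g`
  have hxw : x * w ∈ cent g := hle (hxS'.resolve_left hxa)
  have hxg : x * g * x⁻¹ = g⁻¹ := by
    have h1 : w⁻¹ * g * w = g⁻¹ := by
      have h2' := congrArg (fun z => w⁻¹ * z⁻¹ * w) hwg
      simp only [inv_inv, _root_.mul_inv_rev] at h2'
      rw [← h2']; group
    calc x * g * x⁻¹ = (x * w) * (w⁻¹ * g * w) * (x * w)⁻¹ := by group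
      _ = g⁻¹ * (x * w) * (x * w)⁻¹ := by rw [h1, ((mem_cent.1 hxw).inv_right).eq]
      _ = g⁻¹ := by group
  have hx2 := sq_eq_neg_one_of_inverting h4 hxg
  obtain ⟨k, hk⟩ := isConj_iff.1
    (isConj_of_sq_neg_one h2 (sq_eq_neg_one_of_tr_eq_zero hg) hx2)
  have hgS : g ∈ S := by rw [hmemS]; exact Or.inl hga
  have e1 : k⁻¹ * x * k = g := by rw [← hk]; group
  have hk1 : x ∈ k • S := mem_smul_iff.mpr (e1.symm ▸ hgS)
  have hk2 : x ∈ k • S' := mem_smul_iff.mpr (e1.symm ▸ hfix g hga)
  by_cases hkS : k • S = S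
  · exact ⟨k • S', fun h => hne ((smul_left_cancel k (h.trans hkS.symm))), hk2⟩
  · exact ⟨k • S, hkS, hk1⟩

theorem redundant_iff (p : ℕ) [hp : Fact p.Prime] :
    Redundant p SL(2, F) ↔ p = 2 ∧ GoodQ (Fintype.card F) := by
  by_cases h : p = 2
  · subst h
    rw [redundant_two_iff]
    exact ⟨fun h => ⟨rfl, h⟩, fun h => h.2⟩
  · exact iff_of_false (not_redundant_odd_prime p h) fun h' => h h'.1

theorem redundant_psl_iff (p : ℕ) [hp : Fact p.Prime] :
    Redundant p PSL(2, F) ↔ p = 2 ∧ GoodQ (Fintype.card F) := by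
  rw [← redundant_iff_of_central (mk : SL(2, F) →* PSL(2, F)) mk_surjective (ker_mk (F := F)).le,
    redundant_iff]

end Cfsg.Agent.SylowRedundant
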