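import Cfsg.Agent.Lib.Perm.SylowTwo
import Cfsg.Agent.Lib.Perm.InvolutionBlocks

/-!
# Elements of a symmetric group lying in a unique Sylow 2-subgroup

A Sylow 2-subgroup of a symmetric group is determined by a pairing of the points and a Sylow
2-subgroup on the pairs. A 2-element `x` lies in only one of them if and only if, for every `L`, at
most `max L 2` points have period `L`.
-/

set_option autoImplicit false

namespace Cfsg.Agent.SylowRedundant.UniqueTwo

open Equiv
open Cfsg.Agent.Perm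
open Cfsg.Agent.Perm.InvolutionBlocks

variable {α : Type*}

/-- The period of a point. -/
noncomputable def per (x : Perm α) (a : α) : ℕ := Function.minimalPeriod (x • ·) a

theorem zpow_eq_iff (x : Perm α) (a : α) (i : ℤ) : (x ^ i) a = a ↔ (per x a : ℤ) ∣ i :=
  MulAction.zpow_smul_eq_iff_minimalPeriod_dvd (a := x) (b := a)

theorem zpow_eq_zpow_iff (x : Perm α) (a : α) (i j : ℤ) :
    (x ^ i) a = (x ^ j) a ↔ (per x a : ℤ) ∣ i - j := by
  rw [← zpow_eq_iff]
  conv_lhs => arg 1; rw [show i = j + (i - j) by ring, zpow_add, Perm.mul_apply]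
  exact (x ^ j).injective.eq_iff

theorem per_eq_of_iff {β : Type*} (x : Perm α) (a : α) (π : Perm β) (b : β)
    (d : ℕ) (h : ∀ i : ℤ, (π ^ i) b = b ↔ (d : ℤ) ∣ i) : per π b = d := by
  refine Nat.dvd_antisymm ?_ ?_
  · exact Int.natCast_dvd_natCast.mp ((zpow_eq_iff π b d).mp ((h d).mpr dvd_rfl))
  · exact Int.natCast_dvd_natCast.mp ((h _).mp ((zpow_eq_iff π b _).mpr dvd_rfl))

theorem per_two_pow {x : Perm α} {k : ℕ} (hx : x ^ 2 ^ k = 1) (a : α) : ∃ j, per x a = 2 ^ j := by
  have h : (per x a : ℤ) ∣ ((2 ^ k : ℕ) : ℤ) :=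
    (zpow_eq_iff x a _).mp (by rw [zpow_natCast, hx]; rfl)
  obtain ⟨j, -, hj⟩ := (Nat.dvd_prime_pow Nat.prime_two).mp (Int.natCast_dvd_natCast.mp h)
  exact ⟨j, hj⟩

theorem per_apply_of_commute {x c : Perm α} (h : Commute x c) (a : α) : per x (c a) = per x a := by
  refine per_eq_of_iff x a x (c a) _ fun i => ?_
  rw [← zpow_eq_iff, ← Perm.mul_apply, (h.zpow_left i).eq, Perm.mul_apply, c.injective.eq_iff]

theorem per_eq_one_iff (x : Perm α) (a : α) : per x a = 1 ↔ x a = a :=
  Function.minimalPeriod_eq_one_iff_isFixedPt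

/-- The points of period `L`. -/
noncomputable def cnt (x : Perm α) (L : ℕ) : ℕ := Nat.card {a // per x a = L}

/-- For every `L` at most `max L 2` points have period `L`. -/
def Sparse (x : Perm α) : Prop := ∀ L : ℕ, cnt x L ≤ max L 2

theorem card_le_cnt [Finite α] (x : Perm α) {L : ℕ} (s : Finset α) (h : ∀ a ∈ s, per x a = L) :
    s.card ≤ cnt x L := by
  rw [cnt, ← Nat.card_eq_finsetCard]
  exact Nat.card_le_card_of_injective (fun a => ⟨a.1, h a.1 a.2⟩) fun a b hab =>
    Subtype.ext (congrArg (fun c : {a // per x a = L} => c.1) hab)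

theorem zpow_half {x : Perm α} {a : α} {M : ℕ} (hM : per x a = M + M) (i : ℤ) :
    ((x ^ i) a = a ∨ (x ^ i) a = (x ^ (M : ℤ)) a) ↔ (M : ℤ) ∣ i := by
  rw [zpow_eq_iff, zpow_eq_zpow_iff, hM]
  push_cast
  constructor
  · rintro (⟨c, hc⟩ | ⟨c, hc⟩)
    · exact ⟨2 * c, by rw [hc]; ring⟩
    · exact ⟨2 * c + 1, by rw [eq_add_of_sub_eq hc]; ring⟩
  · rintro ⟨c, rfl⟩
    rcases Int.even_or_odd c with ⟨d, rfl⟩ | ⟨d, rfl⟩
    · exact Or.inl ⟨d, by ring⟩
    · exact Or.inr ⟨d, by ring⟩

/-- A fixed-point-sparse involution commuting with a sparse `x` is the half turn on each cycle. -/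
theorem half_turn [Finite α] {x σ : Perm α} (hc : Commute x σ) (hs : σ * σ = 1)
    (hsub : ∀ a b, σ a = a → σ b = b → a = b) (hS : Sparse x) {a : α} {L : ℕ}
    (hL : per x a = L) (hL2 : 2 ≤ L) : ∃ M : ℕ, L = M + M ∧ σ a = (x ^ (M : ℤ)) a := by
  classical
  obtain ⟨i, hi⟩ : ∃ i : ℤ, σ a = (x ^ i) a := by
    by_contra h
    simp only [not_exists] at h
    let s : Finset α := (Finset.range L).image (fun i : ℕ => (x ^ (i : ℤ)) a)
    have hcard : s.card = L := by
      rw [Finset.card_image_of_injOn, Finset.card_range]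
      intro i hi j hj hij
      have hd := (zpow_eq_zpow_iff x a _ _).mp hij
      rw [hL] at hd
      simp only [Finset.coe_range, Set.mem_Iio] at hi hj
      exact Nat.modEq_iff_dvd.mpr (by simpa using (dvd_neg.mpr hd)) |>.eq_of_lt_of_lt hi hj
    have hnot : σ a ∉ s := fun hm => by
      obtain ⟨i, -, hi⟩ := Finset.mem_image.mp hm
      exact h i hi.symm
    have hbound := card_le_cnt x (L := L) (insert (σ a) s) fun b hb => by
      rcases Finset.mem_insert.mp hb with rfl | hb
      · rw [per_apply_of_commute hc, hL]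
      · obtain ⟨i, -, rfl⟩ := Finset.mem_image.mp hb
        rw [per_apply_of_commute (Commute.self_zpow x _), hL]
    rw [Finset.card_insert_of_notMem hnot, hcard] at hbound
    have := hS L
    omega
  have hne : σ a ≠ a := by
    intro h
    have h1 : σ (x a) = x a := by rw [← Perm.mul_apply, ← hc.eq, Perm.mul_apply, h]
    have := (per_eq_one_iff x a).mpr (hsub _ _ h1 h)
    omega
  have h2 : (x ^ (i + i)) a = a := by
    rw [zpow_add, Perm.mul_apply, ← hi, ← Perm.mul_apply, (hc.zpow_left i).eq, Perm.mul_apply, ← hi,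
      ← Perm.mul_apply, hs]
    rfl
  rw [zpow_eq_iff, hL] at h2
  have hni : ¬ (L : ℤ) ∣ i := fun h => hne (hi.trans ((zpow_eq_iff x a i).mpr (hL ▸ h)))
  obtain ⟨c, hc2⟩ := h2
  rcases Int.even_or_odd c with ⟨d, rfl⟩ | ⟨d, rfl⟩
  · exact absurd ⟨d, by linarith⟩ hni
  obtain ⟨M, hM⟩ : ∃ M : ℕ, L = M + M := by
    refine ⟨L / 2, ?_⟩
    have : 2 ∣ L := by
      have h2' : (2 : ℤ) ∣ (L : ℤ) * (2 * d + 1) := ⟨i, by linarith⟩
      rcases Int.prime_two.dvd_or_dvd h2' with h | h
      · exact_mod_cast h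
      · omega
    omega
  refine ⟨M, hM, hi.trans ((zpow_eq_zpow_iff x a i M).mpr ⟨d, ?_⟩)⟩
  rw [hL, hM]
  rw [hM] at hc2
  push_cast at hc2 ⊢
  linarith

/-- Such an involution is unique. -/
theorem flip_unique [Finite α] {x σ σ' : Perm α} (hc : Commute x σ) (hs : σ * σ = 1)
    (hsub : ∀ a b, σ a = a → σ b = b → a = b) (hc' : Commute x σ') (hs' : σ' * σ' = 1)
    (hsub' : ∀ a b, σ' a = a → σ' b = b → a = b) (hS : Sparse x) {k : ℕ} (hx : x ^ 2 ^ k = 1) :
    σ = σ' := by
  classical
  ext a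
  obtain ⟨j, hj⟩ := per_two_pow hx a
  rcases j with _ | j
  · rw [pow_zero] at hj
    by_contra hne
    have hone : ∀ {τ : Perm α}, Commute x τ → per x (τ a) = 1 := fun h => by
      rw [per_apply_of_commute h, hj]
    have hcnt : ∀ s : Finset α, (∀ b ∈ s, per x b = 1) → s.card ≤ 2 := fun s hs0 =>
      (card_le_cnt x s hs0).trans ((hS 1).trans (by norm_num))
    have step : ∀ {τ τ' : Perm α}, Commute x τ → Commute x τ' → τ' * τ' = 1 →
        (∀ b c, τ' b = b → τ' c = c → b = c) → τ a ≠ a → τ' a = τ a := by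
      intro τ τ' hτ hτ' hτ'2 hτ's hmove
      by_contra h
      by_cases hfix : τ' a = a
      · have hb : τ' (τ a) ≠ τ a := fun e => hmove (hτ's _ _ e hfix)
        have hb2 : τ' (τ a) ≠ a := fun e => hmove (τ'.injective (e.trans hfix.symm))
        have h3 := hcnt {a, τ a, τ' (τ a)} (by
          simp only [Finset.mem_insert, Finset.mem_singleton]
          rintro b (rfl | rfl | rfl)
          · exact hj
          · exact hone hτ
          · rw [per_apply_of_commute hτ', hone hτ])
        rw [Finset.card_eq_three.mpr ⟨a, τ a, τ' (τ a), Ne.symm hmove, Ne.symm hb2, Ne.symm hb, rfl⟩] at h3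
        omega
      · have h3 := hcnt {a, τ a, τ' a} (by
          simp only [Finset.mem_insert, Finset.mem_singleton]
          rintro b (rfl | rfl | rfl)
          · exact hj
          · exact hone hτ
          · exact hone hτ')
        rw [Finset.card_eq_three.mpr ⟨a, τ a, τ' a, Ne.symm hmove, Ne.symm hfix, Ne.symm h, rfl⟩] at h3
        omega
    by_cases h : σ a = a
    · by_cases h' : σ' a = a
      · exact hne (by rw [h, h'])
      · exact hne (step hc' hc hs hsub h')
    · exact hne (step hc hc' hs' hsub' h).symm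
  · obtain ⟨M, hM, h1⟩ := half_turn hc hs hsub hS hj
      (by rw [pow_succ]; have := Nat.one_le_two_pow (n := j); omega)
    obtain ⟨M', hM', h2⟩ := half_turn hc' hs' hsub' hS hj
      (by rw [pow_succ]; have := Nat.one_le_two_pow (n := j); omega)
    rw [h1, h2, show M = M' by omega]

/-! ### Pairings -/

section Pairing

variable {β γ : Type*} (e : α ≃ (β × Bool) ⊕ γ)

/-- The pairing involution as a permutation. -/
def flipPerm : Perm α := ⟨pairFlip e, pairFlip e, pairFlip_flip e, pairFlip_flip e⟩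

theorem flipPerm_apply (a : α) : flipPerm e a = pairFlip e a := rfl

theorem flipPerm_mul_self : flipPerm e * flipPerm e = 1 := Equiv.ext (pairFlip_flip e)

theorem flipPerm_sub [Subsingleton γ] (a b : α) (ha : flipPerm e a = a) (hb : flipPerm e b = b) :
    a = b := eq_of_fixed e ha hb

theorem compat_zpow {g : Perm α} {π : Perm β} (h : (g, π) ∈ pairCompat e) (i : ℤ) (a : α) :
    pairOfPt e ((g ^ i) a) = (pairOfPt e a).map (π ^ i) := by
  have := (pairCompat e).zpow_mem h i
  exact this a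

theorem commute_flip_of_compat [Subsingleton γ] {g : Perm α} {π : Perm β}
    (h : (g, π) ∈ pairCompat e) : Commute g (flipPerm e) := by
  refine Equiv.ext fun x => ?_
  show g (pairFlip e x) = pairFlip e (g x)
  by_cases hx : pairFlip e x = x
  · rw [hx]
    have h0 := (pairOfPt_eq_none_iff e x).2 hx
    have h1 : pairOfPt e (g x) = none := by
      show pairOfPt e ((g, π).1 x) = none
      rw [h x, h0]; rfl
    exact ((pairOfPt_eq_none_iff e (g x)).1 h1).symm
  · have h1 : pairOfPt e (g (pairFlip e x)) = pairOfPt e (g x) := by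
      show pairOfPt e ((g, π).1 _) = pairOfPt e ((g, π).1 x)
      rw [h, h, (pairOfPt_eq_iff e x (pairFlip e x)).2 (Or.inr rfl)]
    exact ((pairOfPt_eq_iff e _ _).1 h1).resolve_left fun e' => hx (g.injective e')

variable [DecidableEq α] [Finite α] [Finite β] [Subsingleton γ]

theorem commute_flip_of_mem (P : Sylow 2 (Perm α))
    (hP : ∀ x, swap x (pairFlip e x) ∈ (P : Subgroup (Perm α))) {g : Perm α}
    (hg : g ∈ (P : Subgroup (Perm α))) : Commute g (flipPerm e) := by
  obtain ⟨⟨⟨g', π⟩, hw⟩, rfl⟩ := sylow_le_range e P hP hg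
  exact commute_flip_of_compat e hw

/-- Sylow subgroups with the same pairing are equal once their images on the pairs are forced equal. -/
theorem eq_of_pairing (P P' : Sylow 2 (Perm α))
    (hP : ∀ x, swap x (pairFlip e x) ∈ (P : Subgroup (Perm α)))
    (hP' : ∀ x, swap x (pairFlip e x) ∈ (P' : Subgroup (Perm α))) {g : Perm α} {π : Perm β}
    (hg : (g, π) ∈ pairCompat e) (hgP : g ∈ (P : Subgroup (Perm α))) (hgP' : g ∈ (P' : Subgroup (Perm α)))
    (huniq : ∀ Q Q' : Sylow 2 (Perm β), π ∈ Q → π ∈ Q' → Q = Q') : P = P' := by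
  let R : Sylow 2 (pairCompat e) :=
    P.comapOfInjective (compatFst e) (compatFst_injective e) (sylow_le_range e P hP)
  let R' : Sylow 2 (pairCompat e) :=
    P'.comapOfInjective (compatFst e) (compatFst_injective e) (sylow_le_range e P' hP')
  have hmap : R.mapSurjective (compatSnd_surjective e) = R'.mapSurjective (compatSnd_surjective e) :=
    huniq _ _ ⟨⟨(g, π), hg⟩, hgP, rfl⟩ ⟨⟨(g, π), hg⟩, hgP', rfl⟩
  have hker : ∀ T : Sylow 2 (pairCompat e), (compatSnd e).ker ≤ (T : Subgroup (pairCompat e)) := by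
    intro T
    have h1 : IsPGroup 2 ((T : Subgroup (pairCompat e)) ⊔ (compatSnd e).ker : Subgroup (pairCompat e)) :=
      T.isPGroup'.to_sup_of_normal_right (isPGroup_ker_compatSnd e)
    rw [← T.is_maximal' h1 le_sup_left]
    exact le_sup_right
  refine Sylow.ext (P.is_maximal' P'.isPGroup' fun y hy => ?_).symm
  obtain ⟨w, rfl⟩ := sylow_le_range e P hP hy
  have hw : compatSnd e w ∈ R'.mapSurjective (compatSnd_surjective e) := hmap ▸ ⟨w, hy, rfl⟩
  obtain ⟨u, hu, hue⟩ := hw
  have : w ∈ (R' : Subgroup (pairCompat e)) := by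
    have hk := hker R' (show u⁻¹ * w ∈ (compatSnd e).ker by
      rw [MonoidHom.mem_ker, map_mul, map_inv, hue, inv_mul_cancel])
    have := mul_mem hu hk
    rwa [mul_inv_cancel_left] at this
  exact this

/-- Some Sylow subgroup contains all pair swaps together with a given compatible 2-element. -/
theorem exists_sylow_of_compat {g : Perm α} {π : Perm β} (hg : (g, π) ∈ pairCompat e) {k : ℕ}
    (hk : g ^ 2 ^ k = 1) :
    ∃ P : Sylow 2 (Perm α), (∀ x, swap x (pairFlip e x) ∈ (P : Subgroup (Perm α))) ∧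
      g ∈ (P : Subgroup (Perm α)) := by
  set w : pairCompat e := ⟨(g, π), hg⟩ with hw
  have hwk : w ^ 2 ^ k = 1 := by
    apply compatFst_injective e
    rw [map_pow, map_one]
    exact hk
  have hZ : IsPGroup 2 (Subgroup.zpowers w) := by
    intro u
    obtain ⟨i, hi⟩ := u.2
    refine ⟨k, Subtype.ext ?_⟩
    show (u : pairCompat e) ^ 2 ^ k = 1
    rw [← hi]
    show (w ^ i) ^ 2 ^ k = 1
    rw [← zpow_natCast, ← zpow_mul, mul_comm, zpow_mul, zpow_natCast, hwk, one_zpow]
  have hT := (hZ.to_sup_of_normal_right (isPGroup_ker_compatSnd e)).map (compatFst e)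
  obtain ⟨P, hP⟩ := hT.exists_le_sylow
  exact ⟨P, fun x => hP ⟨⟨_, swap_pair_mem e x⟩, Subgroup.mem_sup_right rfl, rfl⟩,
    hP ⟨w, Subgroup.mem_sup_left (Subgroup.mem_zpowers w), rfl⟩⟩

/-- The induced permutation of the pairs of a sparse element is sparse. -/
theorem sparse_induced {x : Perm α} {π : Perm β} (h : (x, π) ∈ pairCompat e) (hS : Sparse x)
    {k : ℕ} (hx : x ^ 2 ^ k = 1) : Sparse π := by
  classical
  have hc := commute_flip_of_compat e h
  have key : ∀ a b, pairOfPt e a = some b → ∀ i : ℤ,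
      ((π ^ i) b = b ↔ ((x ^ i) a = a ∨ (x ^ i) a = pairFlip e a)) := by
    intro a b hab i
    rw [← pairOfPt_eq_iff, compat_zpow e h, hab, Option.map_some, Option.some.injEq]
  -- periods of the two points over a pair
  have hper : ∀ a b, pairOfPt e a = some b →
      (per x a = 1 ∧ per π b = 1) ∨ per x a = per π b + per π b := by
    intro a b hab
    obtain ⟨j, hj⟩ := per_two_pow hx a
    rcases j with _ | j
    · rw [pow_zero] at hj
      refine Or.inl ⟨hj, per_eq_of_iff x a π b 1 fun i => ?_⟩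
      simp only [Nat.cast_one, one_dvd, iff_true, key a b hab]
      left
      rw [zpow_eq_iff, hj]; simp
    · obtain ⟨M, hM, h1⟩ := half_turn hc (flipPerm_mul_self e) (flipPerm_sub e) hS hj
        (by rw [pow_succ]; have := Nat.one_le_two_pow (n := j); omega)
      rw [flipPerm_apply] at h1
      have : per π b = M := per_eq_of_iff x a π b M fun i => by
        rw [key a b hab, h1, zpow_half (hj.trans hM)]
      exact Or.inr (by rw [hj, hM, this])
  intro K
  -- the `2 * cnt π K` points over pairs of period `K`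
  let S := {b // per π b = K}
  have pt : ∀ (b : β) (t : Bool), pairOfPt e (e.symm (.inl (b, t))) = some b := fun b t => by
    simp [pairOfPt]
  let f : S × Bool → α := fun q => e.symm (.inl (q.1.1, q.2))
  have hf : Function.Injective f := fun q q' hq => by
    have := e.symm.injective hq
    simp only [Sum.inl.injEq, Prod.mk.injEq] at this
    exact Prod.ext (Subtype.ext this.1) this.2
  have : Fintype (S × Bool) := Fintype.ofFinite _
  have hcard : (Finset.univ.image f).card = cnt π K * 2 := by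
    rw [Finset.card_image_of_injective _ hf, Finset.card_univ, ← Nat.card_eq_fintype_card,
      Nat.card_prod, Nat.card_eq_fintype_card (α := Bool), Fintype.card_bool]
    rfl
  set s := Finset.univ.image f with hs
  have hmem : ∀ a ∈ s, ∃ b, per π b = K ∧ pairOfPt e a = some b := by
    intro a ha
    obtain ⟨q, -, rfl⟩ := Finset.mem_image.mp ha
    exact ⟨q.1.1, q.1.2, pt _ _⟩
  by_cases hK : K = 1
  · subst hK
    have h1 := card_le_cnt x (L := 1) (s.filter fun a => per x a = 1) (by simp)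
    have h2 := card_le_cnt x (L := 2) (s.filter fun a => ¬ per x a = 1) (fun a ha => by
      obtain ⟨has, hne⟩ := Finset.mem_filter.mp ha
      obtain ⟨b, hb, hab⟩ := hmem a has
      rcases hper a b hab with ⟨h', -⟩ | h'
      · exact absurd h' hne
      · rw [h', hb])
    have h3 := Finset.card_filter_add_card_filter_not (s := s) (fun a => per x a = 1)
    have := hS 1
    have := hS 2
    omega
  · have h1 := card_le_cnt x (L := K + K) s (fun a ha => by
      obtain ⟨b, hb, hab⟩ := hmem a ha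
      rcases hper a b hab with ⟨-, h'⟩ | h'
      · exact absurd (hb.symm.trans h') hK
      · rw [h', hb])
    have := hS (K + K)
    omega

end Pairing

/-- A sparse 2-element lies in only one Sylow 2-subgroup. -/
theorem unique_of_sparse (n : ℕ) (x : Perm (Fin n)) {k : ℕ} (hx : x ^ 2 ^ k = 1) (hS : Sparse x)
    (P P' : Sylow 2 (Perm (Fin n))) (hP : x ∈ P) (hP' : x ∈ P') : P = P' := by
  induction n using Nat.strong_induction_on generalizing k with
  | _ n ih =>
  by_cases hn : n ≤ 1
  · have : Subsingleton (Fin n) := Fin.subsingleton_iff_le_one.2 hn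
    exact Sylow.ext (Subgroup.ext fun g => by
      rw [Subsingleton.elim g 1]; exact iff_of_true (one_mem _) (one_mem _))
  have : Subsingleton (Fin (n % 2)) := Fin.subsingleton_iff_le_one.2 (by omega)
  obtain ⟨e, he⟩ := exists_pairing n P
  obtain ⟨e', he'⟩ := exists_pairing n P'
  have hc := commute_flip_of_mem e P he hP
  have hc' := commute_flip_of_mem e' P' he' hP'
  have heq := flip_unique hc (flipPerm_mul_self e) (flipPerm_sub e) hc' (flipPerm_mul_self e')
    (flipPerm_sub e') hS hx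
  have he'' : ∀ a, swap a (pairFlip e a) ∈ (P' : Subgroup (Perm (Fin n))) := fun a => by
    rw [show pairFlip e a = pairFlip e' a from congrArg (fun σ : Perm (Fin n) => σ a) heq]
    exact he' a
  obtain ⟨⟨⟨g, π⟩, hw⟩, hgx⟩ := sylow_le_range e P he hP
  change g = x at hgx
  subst hgx
  refine eq_of_pairing e P P' he he'' hw hP hP' fun Q Q' hQ hQ' => ?_
  have hπ : π ^ 2 ^ k = 1 := by
    have hpk : ((g, π) : Perm (Fin n) × Perm (Fin (n / 2))) ^ 2 ^ k ∈ pairCompat e :=
      (pairCompat e).pow_mem hw _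
    have : (⟨_, hpk⟩ : pairCompat e) = 1 := compatFst_injective e (by rw [map_one]; exact hx)
    exact congrArg (fun w : pairCompat e => w.1.2) this
  exact ih (n / 2) (by omega) π hπ (sparse_induced e hw hS hx) Q Q' hQ hQ'

/-! ### Non-sparse elements -/

/-- Exchange of two cycles of equal length. -/
theorem exists_exchange (x : Perm α) (a b : α) (hper : per x a = per x b)
    (hdis : ∀ i j : ℤ, (x ^ i) a ≠ (x ^ j) b) :
    ∃ τ : Perm α, τ * τ = 1 ∧ Commute x τ ∧ (∀ i : ℤ, τ ((x ^ i) a) = (x ^ i) b) ∧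
      (∀ i : ℤ, τ ((x ^ i) b) = (x ^ i) a) ∧
      ∀ y, (∀ i : ℤ, (x ^ i) a ≠ y) → (∀ i : ℤ, (x ^ i) b ≠ y) → τ y = y := by
  classical
  let f : α → α := fun y =>
    if h : ∃ i : ℤ, (x ^ i) a = y then (x ^ h.choose) b
    else if h' : ∃ i : ℤ, (x ^ i) b = y then (x ^ h'.choose) a else y
  have fa : ∀ i : ℤ, f ((x ^ i) a) = (x ^ i) b := by
    intro i
    have h : ∃ j : ℤ, (x ^ j) a = (x ^ i) a := ⟨i, rfl⟩
    simp only [f, dif_pos h]
    rw [zpow_eq_zpow_iff, ← hper, ← zpow_eq_zpow_iff]
    exact h.choose_spec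
  have fb : ∀ i : ℤ, f ((x ^ i) b) = (x ^ i) a := by
    intro i
    have hn : ¬ ∃ j : ℤ, (x ^ j) a = (x ^ i) b := fun ⟨j, hj⟩ => hdis j i hj
    have h : ∃ j : ℤ, (x ^ j) b = (x ^ i) b := ⟨i, rfl⟩
    simp only [f, dif_neg hn, dif_pos h]
    rw [zpow_eq_zpow_iff, hper, ← zpow_eq_zpow_iff]
    exact h.choose_spec
  have fo : ∀ y, (∀ i : ℤ, (x ^ i) a ≠ y) → (∀ i : ℤ, (x ^ i) b ≠ y) → f y = y := by
    intro y ha hb
    simp only [f, dif_neg (not_exists.mpr ha), dif_neg (not_exists.mpr hb)]
  have hff : ∀ y, f (f y) = y := by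
    intro y
    by_cases ha : ∃ i : ℤ, (x ^ i) a = y
    · obtain ⟨i, rfl⟩ := ha; rw [fa, fb]
    by_cases hb : ∃ i : ℤ, (x ^ i) b = y
    · obtain ⟨i, rfl⟩ := hb; rw [fb, fa]
    rw [fo y (not_exists.mp ha) (not_exists.mp hb), fo y (not_exists.mp ha) (not_exists.mp hb)]
  let τ : Perm α := ⟨f, f, hff, hff⟩
  have hstep : ∀ (c : α) (i : ℤ), x ((x ^ i) c) = (x ^ (1 + i)) c := fun c i => by
    rw [zpow_add, zpow_one, Perm.mul_apply]
  refine ⟨τ, Equiv.ext hff, Equiv.ext fun y => ?_, fa, fb, fo⟩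
  show x (f y) = f (x y)
  by_cases ha : ∃ i : ℤ, (x ^ i) a = y
  · obtain ⟨i, rfl⟩ := ha
    rw [fa, hstep, hstep, fa]
  by_cases hb : ∃ i : ℤ, (x ^ i) b = y
  · obtain ⟨i, rfl⟩ := hb
    rw [fb, hstep, hstep, fb]
  have back : ∀ c, (∃ i : ℤ, (x ^ i) c = x y) → ∃ i : ℤ, (x ^ i) c = y := by
    rintro c ⟨i, hi⟩
    refine ⟨-1 + i, ?_⟩
    rw [zpow_add, Perm.mul_apply, hi, zpow_neg_one]; exact x.symm_apply_apply y
  rw [fo y (not_exists.mp ha) (not_exists.mp hb),
    fo (x y) (not_exists.mp fun h => ha (back a h)) (not_exists.mp fun h => hb (back b h))]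

/-- A non-sparse 2-element commutes with a second admissible involution. -/
theorem exists_second_flip [Fintype α] [DecidableEq α] {x σ : Perm α} (hc : Commute x σ)
    (hs : σ * σ = 1) (hsub : ∀ a b, σ a = a → σ b = b → a = b) (hS : ¬ Sparse x) {k : ℕ}
    (hx : x ^ 2 ^ k = 1) :
    ∃ σ' : Perm α, Commute x σ' ∧ σ' * σ' = 1 ∧ (∀ a b, σ' a = a → σ' b = b → a = b) ∧ σ' ≠ σ := by
  simp only [Sparse, not_forall, not_le] at hS
  obtain ⟨L, hL⟩ := hS
  have hσσ : ∀ y, σ (σ y) = y := fun y => by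
    rw [← Perm.mul_apply, hs]; rfl
  -- conjugating by an element of the centralizer
  have viaConj : ∀ c : Perm α, Commute x c → (∃ y, c (σ y) ≠ σ (c y)) →
      ∃ σ' : Perm α, Commute x σ' ∧ σ' * σ' = 1 ∧ (∀ a b, σ' a = a → σ' b = b → a = b) ∧ σ' ≠ σ := by
    rintro c hxc ⟨y, hy⟩
    refine ⟨c * σ * c⁻¹, (hxc.mul_right hc).mul_right hxc.inv_right, ?_, ?_, ?_⟩
    · rw [show c * σ * c⁻¹ * (c * σ * c⁻¹) = c * (σ * σ) * c⁻¹ by group, hs]; group
    · intro a b ha hb
      apply c⁻¹.injective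
      refine hsub _ _ ?_ ?_ <;> apply c.injective <;> simpa
    · intro h
      apply hy
      have := congrArg (fun τ : Perm α => τ (c y)) h
      simpa using this
  have hcard : max L 2 < Nat.card {a // per x a = L} := hL
  obtain ⟨⟨a, ha⟩⟩ : Nonempty {a // per x a = L} := (Nat.card_pos_iff.mp (by omega)).1
  obtain ⟨j, hj⟩ := per_two_pow hx a
  rw [ha] at hj
  -- a point of the same period outside a given small set
  have outside : ∀ s : Finset α, s.card ≤ max L 2 → ∃ b, per x b = L ∧ b ∉ s := by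
    intro s hsc
    by_contra hcon
    simp only [not_exists, not_and, not_not] at hcon
    have : Nat.card {a // per x a = L} ≤ Nat.card s :=
      Nat.card_le_card_of_injective (fun b => ⟨b.1, hcon b.1 b.2⟩) fun b b' hbb =>
        Subtype.ext (congrArg (fun c : s => c.1) hbb)
    rw [Nat.card_eq_finsetCard] at this
    omega
  rcases j with _ | j
  · -- at least three fixed points
    rw [pow_zero] at hj
    subst hj
    obtain ⟨b, hb, hba⟩ : ∃ b, per x b = 1 ∧ σ b ≠ b := by
      obtain ⟨b', hb', hb'a⟩ := outside {a} (by simp)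
      by_cases h : σ a = a
      · exact ⟨b', hb', fun e => hb'a (by simp [hsub _ _ e h])⟩
      · exact ⟨a, ha, h⟩
    obtain ⟨d, hd, hdo⟩ := outside {b, σ b} (Finset.card_le_two.trans (le_max_right _ _))
    simp only [Finset.mem_insert, Finset.mem_singleton, not_or] at hdo
    refine viaConj (swap (σ b) d) ?_ ⟨b, ?_⟩
    · have hxσb : x (σ b) = σ b := (per_eq_one_iff _ _).mp ((per_apply_of_commute hc b).trans hb)
      have hxd : x d = d := (per_eq_one_iff _ _).mp hd
      show x * swap (σ b) d = swap (σ b) d * x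
      rw [Equiv.mul_swap_eq_swap_mul, hxσb, hxd]
    · rw [swap_apply_left, swap_apply_of_ne_of_ne (Ne.symm hba) (Ne.symm hdo.1)]
      exact hdo.2
  -- at least two cycles of length `L`
  have hL2 : 2 ≤ L := by rw [hj, pow_succ]; have := Nat.one_le_two_pow (n := j); omega
  have hmoved : ∀ y, per x y = L → x y ≠ y := fun y hy h => by
    rw [(per_eq_one_iff x y).mpr h] at hy; omega
  by_cases hswap : ∃ y, per x y = L ∧ ∀ i : ℤ, (x ^ i) y ≠ σ y
  · obtain ⟨y, hy, hyσ⟩ := hswap
    refine viaConj (x.cycleOf y) ?_ ⟨y, ?_⟩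
    · exact Equiv.Perm.self_mem_cycle_factors_commute
        (Equiv.Perm.cycleOf_mem_cycleFactorsFinset_iff.mpr (Perm.mem_support.mpr (hmoved y hy))) |>.symm
    · rw [Perm.cycleOf_apply_self, Perm.cycleOf_apply_of_not_sameCycle (fun ⟨i, hi⟩ => hyσ i hi)]
      intro h
      exact hmoved y hy (σ.injective h).symm
  simp only [not_exists, not_and, not_forall, not_not] at hswap
  -- both cycles are turned by half
  have half : ∀ y, per x y = L → σ y = (x ^ ((2 ^ j : ℕ) : ℤ)) y := by
    intro y hy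
    obtain ⟨i, hi⟩ := hswap y hy
    have hne : σ y ≠ y := by
      intro h
      have h1 : σ (x y) = x y := by rw [← Perm.mul_apply, ← hc.eq, Perm.mul_apply, h]
      exact hmoved y hy (hsub _ _ h1 h)
    have h2 : (x ^ (i + i)) y = y := by
      rw [zpow_add, Perm.mul_apply, hi, ← Perm.mul_apply, (hc.zpow_left i).eq, Perm.mul_apply, hi, hσσ]
    have hL' : per x y = 2 ^ j + 2 ^ j := by rw [hy, hj, pow_succ]; ring
    rw [zpow_eq_iff, hL'] at h2
    have hdiv : ((2 ^ j : ℕ) : ℤ) ∣ i := by
      obtain ⟨c, hc'⟩ := h2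
      exact ⟨c, by push_cast at hc' ⊢; linarith⟩
    rcases (zpow_half hL' i).mpr hdiv with h | h
    · exact absurd (hi.symm.trans h) hne
    · exact hi.symm.trans h
  let O : Finset α := (Finset.range L).image (fun i : ℕ => (x ^ (i : ℤ)) a)
  obtain ⟨b, hb, hbO⟩ := outside O ((Finset.card_image_le).trans (by simp))
  have hdis : ∀ i i' : ℤ, (x ^ i) a ≠ (x ^ i') b := by
    intro i i' h
    apply hbO
    have h' : (x ^ (i - i')) a = b := by
      rw [sub_eq_neg_add, zpow_add, Perm.mul_apply, h, ← Perm.mul_apply, ← zpow_add, neg_add_cancel]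
      rfl
    refine Finset.mem_image.mpr ⟨((i - i') % L).toNat, Finset.mem_range.mpr ?_, ?_⟩
    · have := Int.emod_lt_of_pos (i - i') (show (0 : ℤ) < L by omega); omega
    · rw [← h', Int.toNat_of_nonneg (Int.emod_nonneg _ (by omega)), zpow_eq_zpow_iff, ha]
      exact ⟨-((i - i') / L), by rw [Int.emod_def]; ring⟩
  obtain ⟨τ, hττ, hxτ, hτa, hτb, hτo⟩ := exists_exchange x a b (ha.trans hb.symm) hdis
  have hperz : ∀ (c : α) (i : ℤ), per x ((x ^ i) c) = per x c := fun c i =>
    per_apply_of_commute (Commute.self_zpow x i) c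
  set h0 : ℤ := ((2 ^ j : ℕ) : ℤ) with hh0
  have σa : ∀ i : ℤ, σ ((x ^ i) a) = (x ^ (h0 + i)) a := fun i => by
    rw [half _ ((hperz a i).trans ha), zpow_add, Perm.mul_apply]
  have σb : ∀ i : ℤ, σ ((x ^ i) b) = (x ^ (h0 + i)) b := fun i => by
    rw [half _ ((hperz b i).trans hb), zpow_add, Perm.mul_apply]
  have hστ : ∀ y, σ (τ y) = τ (σ y) := by
    intro y
    by_cases hya : ∃ i : ℤ, (x ^ i) a = y
    · obtain ⟨i, rfl⟩ := hya; rw [hτa, σb, σa, hτa]
    by_cases hyb : ∃ i : ℤ, (x ^ i) b = y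
    · obtain ⟨i, rfl⟩ := hyb; rw [hτb, σa, σb, hτb]
    rw [hτo y (not_exists.mp hya) (not_exists.mp hyb), hτo (σ y) ?_ ?_]
    · intro i hi
      exact hya ⟨h0 + i, by rw [← σa, hi, hσσ]⟩
    · intro i hi
      exact hyb ⟨h0 + i, by rw [← σb, hi, hσσ]⟩
  refine ⟨σ * τ, hc.mul_right hxτ, Equiv.ext fun y => ?_, ?_, ?_⟩
  · show σ (τ (σ (τ y))) = y
    rw [← hστ, hσσ, ← Perm.mul_apply, hττ]; rfl
  · have key : ∀ y, σ (τ y) = y → σ y = y := by
      intro y hy
      by_cases hya : ∃ i : ℤ, (x ^ i) a = y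
      · obtain ⟨i, rfl⟩ := hya
        rw [hτa, σb] at hy
        exact absurd hy.symm (hdis _ _)
      by_cases hyb : ∃ i : ℤ, (x ^ i) b = y
      · obtain ⟨i, rfl⟩ := hyb
        rw [hτb, σa] at hy
        exact absurd hy (hdis _ _)
      rwa [hτo y (not_exists.mp hya) (not_exists.mp hyb)] at hy
    exact fun y z hy hz => hsub y z (key y hy) (key z hz)
  · intro h
    have := congrArg (fun g : Perm α => g a) h
    simp only [Perm.mul_apply] at this
    have hτ0 := hτa 0
    rw [zpow_zero] at hτ0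
    simp only [Perm.one_apply] at hτ0
    exact hdis 0 0 (by simpa [hτ0] using (σ.injective this).symm)

theorem moved_eq_of_sub [Fintype α] [DecidableEq α] (σ : Perm α) (hs : σ * σ = 1)
    (hsub : ∀ a b, σ a = a → σ b = b → a = b) : σ.support.card = 2 * (Fintype.card α / 2) := by
  have hev : 2 ∣ σ.support.card := by
    rw [← σ.sum_cycleType, cycleType_of_involution σ hs, Multiset.sum_replicate, smul_eq_mul]
    exact dvd_mul_left _ _
  have hle : σ.supportᶜ.card ≤ 1 := Finset.card_le_one.mpr fun a ha b hb => hsub a b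
    (by simpa using ha) (by simpa using hb)
  rw [Finset.card_compl] at hle
  have := σ.support.card_le_univ
  omega

/-- A non-sparse 2-element lies in two Sylow 2-subgroups. -/
theorem not_unique_of_not_sparse (n : ℕ) (x : Perm (Fin n)) {k : ℕ} (hx : x ^ 2 ^ k = 1)
    (hS : ¬ Sparse x) : ¬ ∃! P : Sylow 2 (Perm (Fin n)), x ∈ P := by
  have : Subsingleton (Fin (n % 2)) := Fin.subsingleton_iff_le_one.2 (by omega)
  rintro ⟨P, hP, huniq⟩
  obtain ⟨e, he⟩ := exists_pairing n P
  obtain ⟨σ', hc', hs', hsub', hne⟩ :=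
    exists_second_flip (commute_flip_of_mem e P he hP) (flipPerm_mul_self e) (flipPerm_sub e) hS hx
  have hconj : IsConj (flipPerm e) σ' := by
    have hmv : ∀ τ : Perm (Fin n), moved τ = τ.support.card := fun τ => by
      rw [moved, ← Nat.card_eq_finsetCard]
      exact Nat.card_congr (Equiv.subtypeEquivRight fun y => by simp)
    rw [Perm.isConj_iff_cycleType_eq, cycleType_of_involution _ (flipPerm_mul_self e),
      cycleType_of_involution _ hs', hmv, hmv, moved_eq_of_sub _ (flipPerm_mul_self e) (flipPerm_sub e),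
      moved_eq_of_sub _ hs' hsub']
  obtain ⟨c, hc⟩ := isConj_iff.mp hconj
  let e' : Fin n ≃ (Fin (n / 2) × Bool) ⊕ Fin (n % 2) := (c.symm : Fin n ≃ Fin n).trans e
  have hflip : ∀ a, pairFlip e' a = σ' a := fun a => by
    rw [← hc]; rfl
  obtain ⟨π, hπ⟩ := exists_compat e' x fun a => by
    rw [hflip, hflip, ← Perm.mul_apply, hc'.eq, Perm.mul_apply]
  obtain ⟨P', hP'e, hP'x⟩ := exists_sylow_of_compat e' hπ hx
  have hPP : P' = P := huniq P' hP'x
  subst hPP
  apply hne
  ext a : 1
  have main : ∀ a, σ' a ≠ a → σ' a = pairFlip e a := fun a ha => by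
    have := hP'e a
    rw [hflip] at this
    exact sylow_swap_eq e P' he a (σ' a) (Ne.symm ha) this
  by_cases ha : σ' a = a
  · by_contra hne'
    have hb : σ' (pairFlip e a) ≠ pairFlip e a := fun h => hne' (by
      rw [flipPerm_apply, ha]; exact (hsub' _ _ h ha).symm)
    have := main _ hb
    rw [pairFlip_flip] at this
    apply hne'
    rw [flipPerm_apply, ha]
    exact σ'.injective (ha.trans this.symm)
  · exact main a ha

/-- The uniqueness criterion. -/
theorem unique_iff_sparse (n : ℕ) (x : Perm (Fin n)) {k : ℕ} (hx : x ^ 2 ^ k = 1) :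
    (∃! P : Sylow 2 (Perm (Fin n)), x ∈ P) ↔ Sparse x := by
  refine ⟨fun h => by_contra fun hS => not_unique_of_not_sparse n x hx hS h, fun hS => ?_⟩
  have hp : IsPGroup 2 (Subgroup.zpowers x) := by
    obtain ⟨j, -, hj⟩ := (Nat.dvd_prime_pow Nat.prime_two).mp (orderOf_dvd_of_pow_eq_one hx)
    exact IsPGroup.of_card (n := j) (by rw [Nat.card_zpowers, hj])
  obtain ⟨P, hP⟩ := hp.exists_le_sylow
  exact ⟨P, hP (Subgroup.mem_zpowers x),
    fun Q hQ => unique_of_sparse n x hx hS Q P hQ (hP (Subgroup.mem_zpowers x))⟩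

/-- Sparseness in terms of fixed points and cycle type. -/
theorem sparse_iff [Fintype α] [DecidableEq α] (x : Perm α) :
    Sparse x ↔ (Fintype.card α ≤ x.support.card + 2 ∧ x.cycleType.Nodup) := by
  classical
  have horb : ∀ a, x a ≠ a → (x.cycleOf a).support.card = per x a := by
    intro a ha
    rw [per, MulAction.minimalPeriod_eq_card, ← Fintype.card_coe]
    refine Fintype.card_congr (Equiv.subtypeEquivRight fun b => ?_)
    rw [Perm.mem_support_cycleOf_iff' ha, MulAction.mem_orbit_iff]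
    constructor
    · rintro ⟨i, rfl⟩; exact ⟨⟨x ^ i, ⟨i, rfl⟩⟩, rfl⟩
    · rintro ⟨⟨g, i, rfl⟩, rfl⟩; exact ⟨i, rfl⟩
  have hfix : cnt x 1 = Fintype.card α - x.support.card := by
    rw [← Finset.card_compl, cnt, ← Nat.card_eq_finsetCard]
    exact Nat.card_congr (Equiv.subtypeEquivRight fun a => by simp [per_eq_one_iff])
  have hnd : x.cycleType.Nodup ↔ ∀ c ∈ x.cycleFactorsFinset, ∀ d ∈ x.cycleFactorsFinset,
      c.support.card = d.support.card → c = d := by
    rw [Perm.cycleType_def]
    refine ⟨fun h c hc d hd => Multiset.inj_on_of_nodup_map h c hc d hd, fun h => ?_⟩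
    exact Multiset.Nodup.map_on (fun c hc d hd => h c hc d hd) x.cycleFactorsFinset.nodup
  have hmem : ∀ a, x a ≠ a → x.cycleOf a ∈ x.cycleFactorsFinset := fun a ha =>
    Perm.cycleOf_mem_cycleFactorsFinset_iff.mpr (Perm.mem_support.mpr ha)
  constructor
  · intro hS
    refine ⟨?_, hnd.mpr fun c hc d hd hcd => ?_⟩
    · have := hS 1
      rw [hfix] at this
      omega
    · by_contra hne
      have hdisj := x.cycleFactorsFinset_pairwise_disjoint hc hd hne
      rw [Perm.disjoint_iff_disjoint_support] at hdisj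
      have hall : ∀ e ∈ x.cycleFactorsFinset, ∀ a ∈ e.support, per x a = e.support.card := by
        intro e he a ha
        have := Perm.cycle_is_cycleOf ha he
        rw [← horb a (by
          have := Perm.mem_cycleFactorsFinset_support_le he ha
          exact Perm.mem_support.mp this), ← this]
      have h := card_le_cnt x (L := c.support.card) (c.support ∪ d.support) fun a ha => by
        rcases Finset.mem_union.mp ha with h | h
        · exact hall c hc a h
        · rw [hall d hd a h, hcd]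
      rw [Finset.card_union_of_disjoint hdisj, ← hcd] at h
      have := hS c.support.card
      have := (Perm.mem_cycleFactorsFinset_iff.mp hc).1.two_le_card_support
      omega
  · rintro ⟨h1, h2⟩ L
    by_cases hL : L = 1
    · subst hL
      rw [hfix]
      omega
    by_cases hex : ∃ a, per x a = L
    · obtain ⟨a, ha⟩ := hex
      have hmv : ∀ b, per x b = L → x b ≠ b := fun b hb h => hL (hb ▸ (per_eq_one_iff x b).mpr h)
      have : cnt x L ≤ (x.cycleOf a).support.card := by
        rw [cnt, ← Nat.card_eq_finsetCard]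
        refine Nat.card_le_card_of_injective (fun b => ⟨b.1, ?_⟩) fun b b' h =>
          Subtype.ext (congrArg (fun c : (x.cycleOf a).support => c.1) h)
        have hcyc := hnd.mp h2 _ (hmem a (hmv a ha)) _ (hmem b.1 (hmv b.1 b.2))
          (by rw [horb a (hmv a ha), horb b.1 (hmv b.1 b.2), ha, b.2])
        rw [hcyc, Perm.mem_support_cycleOf_iff' (hmv b.1 b.2)]
      rw [horb a (hmv a ha), ha] at this
      exact this.trans (le_max_left _ _)
    · have : IsEmpty {a // per x a = L} := ⟨fun a => hex ⟨a.1, a.2⟩⟩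
      simp [cnt]

end Cfsg.Agent.SylowRedundant.UniqueTwo
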